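import Groth.Agent.GrpQuotLib.Descend
import Groth.Agent.GrpQuotLib.KerGrp
import Groth.Prelude.Def_AlgGrp

/-!
# Abelian categories of commutative group schemes
-/

set_option autoImplicit false
set_option backward.isDefEq.respectTransparency.types false
set_option linter.style.haveILetI false
set_option linter.unusedSectionVars false

universe u

open CategoryTheory CategoryTheory.Limits MonoidalCategory CartesianMonoidalCategory MonObj AlgebraicGeometry

noncomputable section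

namespace Groth.Agent.CommGrpAbLib

variable {S : Scheme.{u}} {X Y : Over S}

/-- The product of two homomorphisms into a commutative group is a homomorphism. -/
theorem isMonHom_mul [GrpObj X] [GrpObj Y] [IsCommMonObj Y] (f g : X ⟶ Y) [IsMonHom f] [IsMonHom g] :
    IsMonHom (f * g) := by
  refine ⟨?_, ?_⟩
  · rw [MonObj.comp_mul, IsMonHom.one_hom, IsMonHom.one_hom]
    have h : η[Y] = (1 : 𝟙_ (Over S) ⟶ Y) := by rw [Hom.one_def, toUnit_unit, Category.id_comp]
    rw [h, _root_.one_mul]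
  · have h : ∀ (u : X ⟶ Y) [IsMonHom u], μ[X] ≫ u = (fst X X ≫ u) * (snd X X ≫ u) := fun u _ => by
      have e : μ[X] = fst X X * snd X X := by rw [Hom.mul_def, lift_fst_snd, Category.id_comp]
      rw [e, MonObj.mul_comp]
    have e2 : ((f * g) ⊗ₘ (f * g)) ≫ μ[Y] = (fst X X ≫ (f * g)) * (snd X X ≫ (f * g)) := by
      rw [Hom.mul_def (fst X X ≫ (f * g))]
      congr 1
    rw [MonObj.comp_mul, h f, h g, e2, MonObj.comp_mul, MonObj.comp_mul, _root_.mul_mul_mul_comm]

theorem isMonHom_one [GrpObj X] [GrpObj Y] : IsMonHom (1 : X ⟶ Y) := by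
  refine ⟨?_, ?_⟩
  · rw [MonObj.comp_one, Hom.one_def, toUnit_unit, Category.id_comp]
  · rw [MonObj.comp_one]
    have e : ((1 : X ⟶ Y) ⊗ₘ (1 : X ⟶ Y)) = lift (1 : X ⊗ X ⟶ Y) 1 := by
      apply CartesianMonoidalCategory.hom_ext <;> simp [MonObj.comp_one]
    rw [e, ← Hom.mul_def, _root_.one_mul]

/-- The group of homomorphisms. -/
def homSub [GrpObj X] [GrpObj Y] [IsCommMonObj Y] : Subgroup (X ⟶ Y) where
  carrier := {f | IsMonHom f}
  mul_mem' {f g} hf hg := @isMonHom_mul _ _ _ _ _ _ f g hf hg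
  one_mem' := isMonHom_one
  inv_mem' {f} hf := by
    haveI : IsMonHom f := hf
    show IsMonHom f⁻¹
    infer_instance

/-- A group mapping monomorphically and homomorphically to a commutative group is commutative. -/
theorem isComm_of_mono [GrpObj X] [GrpObj Y] [IsCommMonObj Y] (i : X ⟶ Y) [IsMonHom i] [Mono i] :
    IsCommMonObj X := by
  constructor
  show (β_ X X).hom ≫ μ[X] = μ[X]
  rw [← cancel_mono i, Category.assoc, IsMonHom.mul_hom, ← BraidedCategory.braiding_naturality_assoc,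
    IsCommMonObj.mul_comm]

/-- A group receiving an epimorphic homomorphism from a commutative group is commutative. -/
theorem isComm_of_fpqc [GrpObj X] [GrpObj Y] [IsCommMonObj X] (q : X ⟶ Y) [IsMonHom q]
    [SchDesc.IsFpqc q.left] : IsCommMonObj Y := by
  haveI := GrpQuotLib.isFpqc_whiskerRight q X
  haveI := GrpQuotLib.isFpqc_whiskerLeft q Y
  haveI : Epi (q ▷ X) := GrpQuotLib.epi_of_isFpqc _
  haveI : Epi (Y ◁ q) := GrpQuotLib.epi_of_isFpqc _
  haveI : Epi (q ⊗ₘ q) := by rw [MonoidalCategory.tensorHom_def]; exact epi_comp _ _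
  constructor
  rw [← cancel_epi (q ⊗ₘ q), BraidedCategory.braiding_naturality_assoc, ← IsMonHom.mul_hom q,
    ← Category.assoc, IsCommMonObj.mul_comm]

/-- The category. -/
abbrev Cat (P : CommGrp (Over S) → Prop) := ObjectProperty.FullSubcategory P

variable {P : CommGrp (Over S) → Prop}

/-- The underlying morphism. -/
abbrev und {A B : Cat P} (h : A ⟶ B) : A.obj.X ⟶ B.obj.X := h.hom.hom.hom.hom

instance {A B : Cat P} (h : A ⟶ B) : IsMonHom (und h) := h.hom.hom.hom.isMonHom_hom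

/-- A morphism from a homomorphism. -/
abbrev mkHom {A B : Cat P} (f : A.obj.X ⟶ B.obj.X) [IsMonHom f] : A ⟶ B :=
  ObjectProperty.homMk (InducedCategory.homMk (Grp.homMk' (Mon.Hom.mk' f)))

theorem hom_ext {A B : Cat P} {f g : A ⟶ B} (h : und f = und g) : f = g :=
  ObjectProperty.hom_ext _ (CommGrp.hom_ext _ _ h)

theorem und_mkHom {A B : Cat P} (f : A.obj.X ⟶ B.obj.X) [IsMonHom f] : und (mkHom f : A ⟶ B) = f := rfl

theorem und_comp {A B C : Cat P} (f : A ⟶ B) (g : B ⟶ C) : und (f ≫ g) = und f ≫ und g := rfl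

/-- Morphisms are homomorphisms. -/
def homEquiv (A B : Cat P) : (A ⟶ B) ≃ Additive (homSub (X := A.obj.X) (Y := B.obj.X)) where
  toFun h := Additive.ofMul ⟨und h, inferInstanceAs (IsMonHom (und h))⟩
  invFun f := @mkHom _ _ A B f.toMul.1 f.toMul.2
  left_inv h := hom_ext rfl
  right_inv f := rfl

instance preadditive : Preadditive (Cat P) where
  homGroup A B := (homEquiv A B).addCommGroup
  add_comp A B C f f' g := by
    apply hom_ext
    show (und f * und f') ≫ und g = (und f ≫ und g) * (und f' ≫ und g)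
    rw [MonObj.mul_comp]
  comp_add A B C f g g' := by
    apply hom_ext
    show und f ≫ (und g * und g') = (und f ≫ und g) * (und f ≫ und g')
    rw [MonObj.comp_mul]

theorem und_zero (A B : Cat P) : und (0 : A ⟶ B) = 1 := rfl

theorem eq_zero_iff {A B : Cat P} (f : A ⟶ B) : f = 0 ↔ und f = 1 :=
  ⟨fun h => by rw [h, und_zero], fun h => hom_ext (h.trans (und_zero A B).symm)⟩

theorem epi_tensor (q : X ⟶ Y) [SchDesc.IsFpqc q.left] : Epi (q ⊗ₘ q) := by
  haveI := GrpQuotLib.isFpqc_whiskerRight q X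
  haveI := GrpQuotLib.isFpqc_whiskerLeft q Y
  haveI : Epi (q ▷ X) := GrpQuotLib.epi_of_isFpqc _
  haveI : Epi (Y ◁ q) := GrpQuotLib.epi_of_isFpqc _
  rw [MonoidalCategory.tensorHom_def]; exact epi_comp _ _

/-- Descent of a homomorphism. -/
theorem isMonHom_of_epi {W : Over S} [GrpObj X] [GrpObj Y] [GrpObj W] (q : X ⟶ Y) [IsMonHom q]
    [SchDesc.IsFpqc q.left] (g : Y ⟶ W) (h : X ⟶ W) [IsMonHom h] (e : q ≫ g = h) : IsMonHom g := by
  haveI := epi_tensor q
  refine ⟨?_, ?_⟩
  · rw [← IsMonHom.one_hom q, Category.assoc, e, IsMonHom.one_hom]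
  · rw [← cancel_epi (q ⊗ₘ q), ← Category.assoc, ← IsMonHom.mul_hom q, Category.assoc, e,
      MonoidalCategory.tensorHom_comp_tensorHom_assoc, e, IsMonHom.mul_hom]

/-- Lifting of a homomorphism. -/
theorem isMonHom_of_mono {W : Over S} [GrpObj X] [GrpObj Y] [GrpObj W] (i : X ⟶ Y) [IsMonHom i] [Mono i]
    (g : W ⟶ X) (h : W ⟶ Y) [IsMonHom h] (e : g ≫ i = h) : IsMonHom g := by
  refine ⟨?_, ?_⟩
  · rw [← cancel_mono i, Category.assoc, e, IsMonHom.one_hom, IsMonHom.one_hom]
  · rw [← cancel_mono i, Category.assoc, e, IsMonHom.mul_hom, Category.assoc, IsMonHom.mul_hom i,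
      MonoidalCategory.tensorHom_comp_tensorHom_assoc, e]

theorem exists_kernel_lift [GrpObj Y] {N Q W : Over S} [GrpObj Q] (a : N ⟶ Y) (q : Y ⟶ Q)
    (h : AlgGrp.IsKernel a q) (x : W ⟶ Y) (hx : x ≫ q = 1) : ∃ l : W ⟶ N, l ≫ a = x :=
  ⟨h.lift x (toUnit W) (by rw [hx, Hom.one_def]), h.lift_fst _ _ _⟩

/-- Descent along a quotient. -/
theorem exists_desc_hom {N Q W : Over S} [GrpObj Y] [GrpObj Q] [GrpObj W] (a : N ⟶ Y) (q : Y ⟶ Q) [IsMonHom q]
    [SchDesc.IsFpqc q.left] (hk : AlgGrp.IsKernel a q) (h : Y ⟶ W) [IsMonHom h] (ha : a ≫ h = 1) :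
    ∃ g : Q ⟶ W, q ≫ g = h ∧ IsMonHom g := by
  obtain ⟨g, hg⟩ := GrpQuotLib.exists_desc q h (fun T x y hxy => by
    obtain ⟨l, hl⟩ := exists_kernel_lift a q hk (x * y⁻¹) (by
      rw [MonObj.mul_comp, GrpObj.inv_comp, hxy, mul_inv_cancel])
    have := congrArg (· ≫ h) hl
    simp only [Category.assoc, ha, MonObj.comp_one, MonObj.mul_comp, GrpObj.inv_comp] at this
    exact (mul_inv_eq_one.mp this.symm))
  exact ⟨g, hg, isMonHom_of_epi q g h hg⟩

theorem isKernel_pullback [GrpObj X] [GrpObj Y] (f : X ⟶ Y) :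
    AlgGrp.IsKernel (pullback.fst f η[Y]) f := by
  show IsPullback _ (toUnit _) f η[Y]
  rw [toUnit_unique (toUnit _) (pullback.snd f η[Y])]
  exact IsPullback.of_hasPullback f η[Y]

/-- Closure properties of a class of commutative groups. -/
structure Closed (P : CommGrp (Over S) → Prop) : Prop where
  unit : P { X := 𝟙_ (Over S) }
  prod : ∀ (A B : Cat P), P { X := A.obj.X ⊗ B.obj.X }
  ker : ∀ (A B : Cat P) (f : A ⟶ B) (K : CommGrp (Over S)) (a : K.X ⟶ A.obj.X),
    IsMonHom a → AlgGrp.IsKernel a (und f) → P K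
  image : ∀ (A B : Cat P) (f : A ⟶ B), ∃ (C : Cat P) (p : A ⟶ C) (i : C ⟶ B),
    p ≫ i = f ∧ SchDesc.IsFpqc (und p).left ∧ Mono (und i)
  quot : ∀ (A B : Cat P) (i : A ⟶ B), Mono (und i) →
    ∃ (Q : Cat P) (q : B ⟶ Q), SchDesc.IsFpqc (und q).left ∧ AlgGrp.IsKernel (und i) (und q)

variable (hP : Closed P)

include hP

theorem hasFiniteProducts : HasFiniteProducts (Cat P) := by
  haveI : HasTerminal (Cat P) := by
    let Z : Cat P := ⟨_, hP.unit⟩
    haveI : ∀ A : Cat P, Nonempty (A ⟶ Z) := fun A => ⟨0⟩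
    haveI : ∀ A : Cat P, Subsingleton (A ⟶ Z) := fun A => ⟨fun f g => hom_ext (toUnit_unique _ _)⟩
    exact hasTerminal_of_unique Z
  haveI : ∀ A B : Cat P, HasLimit (pair A B) := fun A B => by
    let T : Cat P := ⟨_, hP.prod A B⟩
    haveI : IsMonHom (fst A.obj.X B.obj.X) := inferInstance
    haveI : IsMonHom (snd A.obj.X B.obj.X) := inferInstance
    refine ⟨⟨⟨BinaryFan.mk (P := T) (mkHom (fst A.obj.X B.obj.X) : T ⟶ A) (mkHom (snd A.obj.X B.obj.X) : T ⟶ B),
      BinaryFan.isLimitMk (fun s =>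
        haveI : IsMonHom (lift (und s.fst) (und s.snd)) := inferInstance
        (mkHom (lift (und s.fst) (und s.snd)) : s.pt ⟶ T)) (fun s => hom_ext ?_) (fun s => hom_ext ?_)
        (fun s m h1 h2 => hom_ext ?_)⟩⟩⟩
    · exact lift_fst _ _
    · exact lift_snd _ _
    · apply CartesianMonoidalCategory.hom_ext
      · exact (congrArg und h1).trans (lift_fst _ _).symm
      · exact (congrArg und h2).trans (lift_snd _ _).symm
  haveI := hasBinaryProducts_of_hasLimit_pair (Cat P)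
  exact hasFiniteProducts_of_has_binary_and_terminal

theorem exists_ker {A B : Cat P} (f : A ⟶ B) :
    ∃ (K : Cat P) (a : K ⟶ A), Mono (und a) ∧ AlgGrp.IsKernel (und a) (und f) := by
  obtain ⟨hK, ha⟩ := GrpQuotLib.exists_grpObj_kernel (und f)
  letI := hK
  haveI := ha
  haveI : Mono η[B.obj.X] := SplitMono.mono ⟨toUnit _, toUnit_unique _ _⟩
  haveI := isComm_of_mono (pullback.fst (und f) η[B.obj.X])
  let K : Cat P := ⟨{ X := pullback (und f) η[B.obj.X] },
    hP.ker A B f { X := pullback (und f) η[B.obj.X] } (pullback.fst _ _) ha (isKernel_pullback _)⟩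
  haveI : @IsMonHom (Over S) _ _ K.obj.X A.obj.X _ _ (pullback.fst (und f) η[B.obj.X]) := ha
  exact ⟨K, mkHom (pullback.fst (und f) η[B.obj.X]), (inferInstance : Mono (pullback.fst (und f) η[B.obj.X])),
    isKernel_pullback _⟩

omit hP in
/-- A kernel square gives a kernel. -/
theorem exists_isLimit_kernel {K A B : Cat P} (a : K ⟶ A) (f : A ⟶ B) (ha : Mono (und a))
    (hk : AlgGrp.IsKernel (und a) (und f)) :
    ∃ w : a ≫ f = 0, Nonempty (IsLimit (KernelFork.ofι a w)) := by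
  haveI := ha
  have w : a ≫ f = 0 := hom_ext (by
    rw [und_comp, und_zero, hk.w, Hom.one_def])
  refine ⟨w, ⟨KernelFork.IsLimit.ofι a w (fun {W} g hg => ?_) (fun {W} g hg => ?_) (fun {W} g hg m hm => ?_)⟩⟩
  · have hz : und g ≫ und f = toUnit W.obj.X ≫ η[B.obj.X] := by
      rw [← und_comp, hg, und_zero]; exact Hom.one_def
    haveI : IsMonHom (hk.lift (und g) (toUnit W.obj.X) hz) := isMonHom_of_mono (und a) _ (und g) (hk.lift_fst _ _ _)
    exact mkHom (hk.lift (und g) (toUnit W.obj.X) hz)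
  · exact hom_ext (hk.lift_fst _ _ _)
  · refine hom_ext ((cancel_mono (und a)).1 ?_)
    exact (congrArg und hm).trans (hk.lift_fst _ _ _).symm

theorem hasKernels : HasKernels (Cat P) := ⟨fun {A B} f => by
  obtain ⟨K, a, ha, hk⟩ := exists_ker hP f
  obtain ⟨w, ⟨h⟩⟩ := exists_isLimit_kernel a f ha hk
  exact ⟨⟨⟨_, h⟩⟩⟩⟩

omit hP in
/-- A quotient gives a cokernel. -/
theorem exists_isColimit_cokernel {C A B : Cat P} (i : C ⟶ B) (q : B ⟶ A) (hq : SchDesc.IsFpqc (und q).left)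
    (hk : AlgGrp.IsKernel (und i) (und q)) {D : Cat P} (f : D ⟶ B) (w : f ≫ q = 0)
    (hfi : ∀ (W : Cat P) (h : B ⟶ W), f ≫ h = 0 → i ≫ h = 0) :
    Nonempty (IsColimit (CokernelCofork.ofπ q w)) := by
  haveI := hq
  haveI : Epi (und q) := GrpQuotLib.epi_of_isFpqc _
  have hd : ∀ (W : Cat P) (h : B ⟶ W), f ≫ h = 0 → ∃ g : A ⟶ W, q ≫ g = h := fun W h hh => by
    obtain ⟨g, hg, hgm⟩ := exists_desc_hom (und i) (und q) hk (und h)
      (by rw [← und_comp, hfi W h hh, und_zero])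
    exact ⟨@mkHom _ _ A W g hgm, hom_ext hg⟩
  choose g hg using hd
  refine ⟨CokernelCofork.IsColimit.ofπ q w (fun {W} h hh => g W h hh) (fun {W} h hh => hg W h hh)
    (fun {W} h hh m hm => hom_ext ((cancel_epi (und q)).1 ?_))⟩
  exact (congrArg und hm).trans (congrArg und (hg W h hh)).symm

theorem hasCokernels : HasCokernels (Cat P) := ⟨fun {A B} f => by
  obtain ⟨C, p, i, hpi, hp, hi⟩ := hP.image A B f
  obtain ⟨Q, q, hq, hk⟩ := hP.quot C B i hi
  have w : f ≫ q = 0 := hom_ext (by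
    rw [← hpi, und_comp, und_comp, Category.assoc, hk.w, und_zero, Hom.one_def, ← Category.assoc]
    exact congrArg (· ≫ η[Q.obj.X]) (toUnit_unique _ _))
  haveI := hp
  haveI : Epi (und p) := GrpQuotLib.epi_of_isFpqc _
  obtain ⟨h⟩ := exists_isColimit_cokernel i q hq hk f w (fun W h hh => hom_ext ((cancel_epi (und p)).1 (by
    rw [← und_comp p, ← Category.assoc, hpi, hh, und_zero, und_zero, MonObj.comp_one])))
  exact ⟨⟨⟨_, h⟩⟩⟩⟩

theorem mono_und {A B : Cat P} (f : A ⟶ B) [Mono f] : Mono (und f) := by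
  obtain ⟨K, a, ha, hk⟩ := exists_ker hP f
  have ha0 : a = 0 := (cancel_mono f).1 (hom_ext (by
    rw [zero_comp, und_comp, hk.w, und_zero, Hom.one_def]))
  refine ⟨fun {W} x y hxy => ?_⟩
  obtain ⟨l, hl⟩ := exists_kernel_lift (und a) (und f) hk (x * y⁻¹) (by
    rw [MonObj.mul_comp, GrpObj.inv_comp, hxy, mul_inv_cancel])
  rw [ha0, und_zero, MonObj.comp_one] at hl
  exact mul_inv_eq_one.mp hl.symm

theorem isNormalMono : IsNormalMonoCategory (Cat P) := ⟨fun {A B} f _ => by
  haveI := mono_und hP f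
  obtain ⟨Q, q, hq, hk⟩ := hP.quot A B f inferInstance
  obtain ⟨w, ⟨h⟩⟩ := exists_isLimit_kernel f q inferInstance hk
  exact ⟨⟨Q, q, w, h⟩⟩⟩

theorem isNormalEpi : IsNormalEpiCategory (Cat P) := ⟨fun {A B} f _ => by
  obtain ⟨C, p, i, hpi, hp, hi⟩ := hP.image A B f
  obtain ⟨Q, q, hq, hk⟩ := hP.quot C B i hi
  haveI := hi
  have hq0 : q = 0 := (cancel_epi f).1 (hom_ext (by
    rw [comp_zero, ← hpi, und_comp, und_comp, Category.assoc, hk.w, und_zero, Hom.one_def, ← Category.assoc]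
    exact congrArg (· ≫ η[Q.obj.X]) (toUnit_unique _ _)))
  obtain ⟨s, hs⟩ := exists_kernel_lift (und i) (und q) hk (𝟙 B.obj.X) (by
    rw [hq0, und_zero, MonObj.comp_one])
  haveI : IsIso (und i) := ⟨s, (cancel_mono (und i)).1 (by rw [Category.assoc, hs, Category.comp_id, Category.id_comp]), hs⟩
  haveI : IsIso (und i).left := ((Over.forget S).mapIso (asIso (und i))).isIso_hom
  haveI := hp
  haveI hfq : SchDesc.IsFpqc (und f).left := by
    rw [← hpi, und_comp, Over.comp_left]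
    haveI : SchDesc.IsFpqc (und i).left := SchDesc.IsFpqc.of_quasiCompact _
    exact GrpQuotLib.isFpqc_comp _ _
  obtain ⟨K, a, ha, hka⟩ := exists_ker hP f
  have w : a ≫ f = 0 := hom_ext (by rw [und_comp, und_zero, hka.w, Hom.one_def])
  obtain ⟨h⟩ := exists_isColimit_cokernel a f hfq hka a w (fun W h hh => hh)
  exact ⟨⟨K, a, w, h⟩⟩⟩

/-- The category is abelian. -/
theorem nonempty_abelian : Nonempty (Abelian (Cat P)) :=
  ⟨{ toPreadditive := preadditive
     toIsNormalMonoCategory := isNormalMono hP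
     toIsNormalEpiCategory := isNormalEpi hP
     has_finite_products := hasFiniteProducts hP
     has_kernels := hasKernels hP
     has_cokernels := hasCokernels hP }⟩

end Groth.Agent.CommGrpAbLib
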